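import Cfsg.Agent.H0.TCFi24a.K0
import Cfsg.Agent.H0.TCFi24a.K1
import Cfsg.Agent.H0.TCFi24a.K2
import Cfsg.Agent.H0.TCFi24a.K3
import Cfsg.Agent.H0.TCFi24a.K4
import Cfsg.Agent.H0.TCFi24a.K5
import Cfsg.Agent.H0.TCFi24a.K6
import Cfsg.Agent.H0.TCFi24a.K7
import Cfsg.Agent.H0.TCFi24a.K8
import Cfsg.Agent.H0.TCFi24a.K9
import Cfsg.Agent.H0.TCFi24a.K10
import Cfsg.Agent.H0.TCFi24a.K11
import Cfsg.Agent.H0.TCFi24a.K12
import Cfsg.Agent.H0.TCFi24a.K13
import Cfsg.Agent.H0.TCFi24a.K14
import Cfsg.Agent.H0.TCFi24a.K15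
import Cfsg.Agent.H0.TCFi24a.K16
set_option maxRecDepth 100000
namespace H0.TCFi24a
open H0
theorem rows0 : ∀ c < (0 + 48) * 64, c < C.M → TC.chkRow C c = true :=
  TC.rows_step (TC.rows_zero C) k0
theorem rows1 : ∀ c < (48 + 48) * 64, c < C.M → TC.chkRow C c = true :=
  TC.rows_step (rows0) k1
theorem rows2 : ∀ c < (96 + 48) * 64, c < C.M → TC.chkRow C c = true :=
  TC.rows_step (rows1) k2
theorem rows3 : ∀ c < (144 + 48) * 64, c < C.M → TC.chkRow C c = true :=
  TC.rows_step (rows2) k3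
theorem rows4 : ∀ c < (192 + 48) * 64, c < C.M → TC.chkRow C c = true :=
  TC.rows_step (rows3) k4
theorem rows5 : ∀ c < (240 + 48) * 64, c < C.M → TC.chkRow C c = true :=
  TC.rows_step (rows4) k5
theorem rows6 : ∀ c < (288 + 48) * 64, c < C.M → TC.chkRow C c = true :=
  TC.rows_step (rows5) k6
theorem rows7 : ∀ c < (336 + 48) * 64, c < C.M → TC.chkRow C c = true :=
  TC.rows_step (rows6) k7
theorem rows8 : ∀ c < (384 + 48) * 64, c < C.M → TC.chkRow C c = true :=
  TC.rows_step (rows7) k8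
theorem rows9 : ∀ c < (432 + 48) * 64, c < C.M → TC.chkRow C c = true :=
  TC.rows_step (rows8) k9
theorem rows10 : ∀ c < (480 + 48) * 64, c < C.M → TC.chkRow C c = true :=
  TC.rows_step (rows9) k10
theorem rows11 : ∀ c < (528 + 48) * 64, c < C.M → TC.chkRow C c = true :=
  TC.rows_step (rows10) k11
theorem rows12 : ∀ c < (576 + 48) * 64, c < C.M → TC.chkRow C c = true :=
  TC.rows_step (rows11) k12
theorem rows13 : ∀ c < (624 + 48) * 64, c < C.M → TC.chkRow C c = true :=
  TC.rows_step (rows12) k13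
theorem rows14 : ∀ c < (672 + 48) * 64, c < C.M → TC.chkRow C c = true :=
  TC.rows_step (rows13) k14
theorem rows15 : ∀ c < (720 + 48) * 64, c < C.M → TC.chkRow C c = true :=
  TC.rows_step (rows14) k15
theorem rows16 : ∀ c < (768 + 48) * 64, c < C.M → TC.chkRow C c = true :=
  TC.rows_step (rows15) k16
theorem rows17 : ∀ c < (816 + 48) * 64, c < C.M → TC.chkRow C c = true :=
  TC.rows_step (rows16) k17
theorem rows18 : ∀ c < (864 + 48) * 64, c < C.M → TC.chkRow C c = true :=
  TC.rows_step (rows17) k18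
theorem rows19 : ∀ c < (912 + 48) * 64, c < C.M → TC.chkRow C c = true :=
  TC.rows_step (rows18) k19
theorem rows20 : ∀ c < (960 + 48) * 64, c < C.M → TC.chkRow C c = true :=
  TC.rows_step (rows19) k20
theorem rows21 : ∀ c < (1008 + 48) * 64, c < C.M → TC.chkRow C c = true :=
  TC.rows_step (rows20) k21
theorem rows22 : ∀ c < (1056 + 48) * 64, c < C.M → TC.chkRow C c = true :=
  TC.rows_step (rows21) k22
theorem rows23 : ∀ c < (1104 + 48) * 64, c < C.M → TC.chkRow C c = true :=
  TC.rows_step (rows22) k23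
theorem rows24 : ∀ c < (1152 + 48) * 64, c < C.M → TC.chkRow C c = true :=
  TC.rows_step (rows23) k24
theorem rows25 : ∀ c < (1200 + 48) * 64, c < C.M → TC.chkRow C c = true :=
  TC.rows_step (rows24) k25
theorem rows26 : ∀ c < (1248 + 48) * 64, c < C.M → TC.chkRow C c = true :=
  TC.rows_step (rows25) k26
theorem rows27 : ∀ c < (1296 + 48) * 64, c < C.M → TC.chkRow C c = true :=
  TC.rows_step (rows26) k27
theorem rows28 : ∀ c < (1344 + 48) * 64, c < C.M → TC.chkRow C c = true :=
  TC.rows_step (rows27) k28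
theorem rows29 : ∀ c < (1392 + 48) * 64, c < C.M → TC.chkRow C c = true :=
  TC.rows_step (rows28) k29
theorem rows30 : ∀ c < (1440 + 48) * 64, c < C.M → TC.chkRow C c = true :=
  TC.rows_step (rows29) k30
theorem rows31 : ∀ c < (1488 + 48) * 64, c < C.M → TC.chkRow C c = true :=
  TC.rows_step (rows30) k31
theorem rows32 : ∀ c < (1536 + 48) * 64, c < C.M → TC.chkRow C c = true :=
  TC.rows_step (rows31) k32
theorem rows33 : ∀ c < (1584 + 48) * 64, c < C.M → TC.chkRow C c = true :=
  TC.rows_step (rows32) k33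
theorem rows34 : ∀ c < (1632 + 48) * 64, c < C.M → TC.chkRow C c = true :=
  TC.rows_step (rows33) k34
theorem rows35 : ∀ c < (1680 + 48) * 64, c < C.M → TC.chkRow C c = true :=
  TC.rows_step (rows34) k35
theorem rows36 : ∀ c < (1728 + 48) * 64, c < C.M → TC.chkRow C c = true :=
  TC.rows_step (rows35) k36
theorem rows37 : ∀ c < (1776 + 48) * 64, c < C.M → TC.chkRow C c = true :=
  TC.rows_step (rows36) k37
theorem rows38 : ∀ c < (1824 + 48) * 64, c < C.M → TC.chkRow C c = true :=
  TC.rows_step (rows37) k38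
theorem rows39 : ∀ c < (1872 + 48) * 64, c < C.M → TC.chkRow C c = true :=
  TC.rows_step (rows38) k39
theorem rows40 : ∀ c < (1920 + 48) * 64, c < C.M → TC.chkRow C c = true :=
  TC.rows_step (rows39) k40
theorem rows41 : ∀ c < (1968 + 48) * 64, c < C.M → TC.chkRow C c = true :=
  TC.rows_step (rows40) k41
theorem rows42 : ∀ c < (2016 + 48) * 64, c < C.M → TC.chkRow C c = true :=
  TC.rows_step (rows41) k42
theorem rows43 : ∀ c < (2064 + 48) * 64, c < C.M → TC.chkRow C c = true :=
  TC.rows_step (rows42) k43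
theorem rows44 : ∀ c < (2112 + 48) * 64, c < C.M → TC.chkRow C c = true :=
  TC.rows_step (rows43) k44
theorem rows45 : ∀ c < (2160 + 48) * 64, c < C.M → TC.chkRow C c = true :=
  TC.rows_step (rows44) k45
theorem rows46 : ∀ c < (2208 + 48) * 64, c < C.M → TC.chkRow C c = true :=
  TC.rows_step (rows45) k46
theorem rows47 : ∀ c < (2256 + 48) * 64, c < C.M → TC.chkRow C c = true :=
  TC.rows_step (rows46) k47
theorem rows48 : ∀ c < (2304 + 48) * 64, c < C.M → TC.chkRow C c = true :=
  TC.rows_step (rows47) k48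
theorem rows49 : ∀ c < (2352 + 48) * 64, c < C.M → TC.chkRow C c = true :=
  TC.rows_step (rows48) k49
theorem rows50 : ∀ c < (2400 + 48) * 64, c < C.M → TC.chkRow C c = true :=
  TC.rows_step (rows49) k50
theorem rows51 : ∀ c < (2448 + 48) * 64, c < C.M → TC.chkRow C c = true :=
  TC.rows_step (rows50) k51
theorem rows52 : ∀ c < (2496 + 48) * 64, c < C.M → TC.chkRow C c = true :=
  TC.rows_step (rows51) k52
theorem rows53 : ∀ c < (2544 + 48) * 64, c < C.M → TC.chkRow C c = true :=
  TC.rows_step (rows52) k53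
theorem rows54 : ∀ c < (2592 + 48) * 64, c < C.M → TC.chkRow C c = true :=
  TC.rows_step (rows53) k54
theorem rows55 : ∀ c < (2640 + 48) * 64, c < C.M → TC.chkRow C c = true :=
  TC.rows_step (rows54) k55
theorem rows56 : ∀ c < (2688 + 48) * 64, c < C.M → TC.chkRow C c = true :=
  TC.rows_step (rows55) k56
theorem rows57 : ∀ c < (2736 + 48) * 64, c < C.M → TC.chkRow C c = true :=
  TC.rows_step (rows56) k57
theorem rows58 : ∀ c < (2784 + 48) * 64, c < C.M → TC.chkRow C c = true :=
  TC.rows_step (rows57) k58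
theorem rows59 : ∀ c < (2832 + 48) * 64, c < C.M → TC.chkRow C c = true :=
  TC.rows_step (rows58) k59
theorem rows60 : ∀ c < (2880 + 48) * 64, c < C.M → TC.chkRow C c = true :=
  TC.rows_step (rows59) k60
theorem rows61 : ∀ c < (2928 + 48) * 64, c < C.M → TC.chkRow C c = true :=
  TC.rows_step (rows60) k61
theorem rows62 : ∀ c < (2976 + 48) * 64, c < C.M → TC.chkRow C c = true :=
  TC.rows_step (rows61) k62
theorem rows63 : ∀ c < (3024 + 48) * 64, c < C.M → TC.chkRow C c = true :=
  TC.rows_step (rows62) k63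
theorem rows64 : ∀ c < (3072 + 48) * 64, c < C.M → TC.chkRow C c = true :=
  TC.rows_step (rows63) k64
theorem rows65 : ∀ c < (3120 + 48) * 64, c < C.M → TC.chkRow C c = true :=
  TC.rows_step (rows64) k65
theorem rows66 : ∀ c < (3168 + 48) * 64, c < C.M → TC.chkRow C c = true :=
  TC.rows_step (rows65) k66
theorem rows67 : ∀ c < (3216 + 48) * 64, c < C.M → TC.chkRow C c = true :=
  TC.rows_step (rows66) k67
theorem rows68 : ∀ c < (3264 + 48) * 64, c < C.M → TC.chkRow C c = true :=
  TC.rows_step (rows67) k68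
theorem rows69 : ∀ c < (3312 + 48) * 64, c < C.M → TC.chkRow C c = true :=
  TC.rows_step (rows68) k69
theorem rows70 : ∀ c < (3360 + 48) * 64, c < C.M → TC.chkRow C c = true :=
  TC.rows_step (rows69) k70
theorem rows71 : ∀ c < (3408 + 48) * 64, c < C.M → TC.chkRow C c = true :=
  TC.rows_step (rows70) k71
theorem rows72 : ∀ c < (3456 + 48) * 64, c < C.M → TC.chkRow C c = true :=
  TC.rows_step (rows71) k72
theorem rows73 : ∀ c < (3504 + 48) * 64, c < C.M → TC.chkRow C c = true :=
  TC.rows_step (rows72) k73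
theorem rows74 : ∀ c < (3552 + 48) * 64, c < C.M → TC.chkRow C c = true :=
  TC.rows_step (rows73) k74
theorem rows75 : ∀ c < (3600 + 48) * 64, c < C.M → TC.chkRow C c = true :=
  TC.rows_step (rows74) k75
theorem rows76 : ∀ c < (3648 + 48) * 64, c < C.M → TC.chkRow C c = true :=
  TC.rows_step (rows75) k76
theorem rows77 : ∀ c < (3696 + 48) * 64, c < C.M → TC.chkRow C c = true :=
  TC.rows_step (rows76) k77
theorem rows78 : ∀ c < (3744 + 48) * 64, c < C.M → TC.chkRow C c = true :=
  TC.rows_step (rows77) k78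
theorem rows79 : ∀ c < (3792 + 48) * 64, c < C.M → TC.chkRow C c = true :=
  TC.rows_step (rows78) k79
theorem rows80 : ∀ c < (3840 + 48) * 64, c < C.M → TC.chkRow C c = true :=
  TC.rows_step (rows79) k80
theorem rows81 : ∀ c < (3888 + 48) * 64, c < C.M → TC.chkRow C c = true :=
  TC.rows_step (rows80) k81
theorem rows82 : ∀ c < (3936 + 48) * 64, c < C.M → TC.chkRow C c = true :=
  TC.rows_step (rows81) k82
theorem rows83 : ∀ c < (3984 + 48) * 64, c < C.M → TC.chkRow C c = true :=
  TC.rows_step (rows82) k83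
theorem rows84 : ∀ c < (4032 + 48) * 64, c < C.M → TC.chkRow C c = true :=
  TC.rows_step (rows83) k84
theorem rows85 : ∀ c < (4080 + 48) * 64, c < C.M → TC.chkRow C c = true :=
  TC.rows_step (rows84) k85
theorem rows86 : ∀ c < (4128 + 48) * 64, c < C.M → TC.chkRow C c = true :=
  TC.rows_step (rows85) k86
theorem rows87 : ∀ c < (4176 + 48) * 64, c < C.M → TC.chkRow C c = true :=
  TC.rows_step (rows86) k87
theorem rows88 : ∀ c < (4224 + 48) * 64, c < C.M → TC.chkRow C c = true :=
  TC.rows_step (rows87) k88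
theorem rows89 : ∀ c < (4272 + 48) * 64, c < C.M → TC.chkRow C c = true :=
  TC.rows_step (rows88) k89
theorem rows90 : ∀ c < (4320 + 48) * 64, c < C.M → TC.chkRow C c = true :=
  TC.rows_step (rows89) k90
theorem rows91 : ∀ c < (4368 + 48) * 64, c < C.M → TC.chkRow C c = true :=
  TC.rows_step (rows90) k91
theorem rows92 : ∀ c < (4416 + 48) * 64, c < C.M → TC.chkRow C c = true :=
  TC.rows_step (rows91) k92
theorem rows93 : ∀ c < (4464 + 48) * 64, c < C.M → TC.chkRow C c = true :=
  TC.rows_step (rows92) k93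
theorem rows94 : ∀ c < (4512 + 48) * 64, c < C.M → TC.chkRow C c = true :=
  TC.rows_step (rows93) k94
theorem rows95 : ∀ c < (4560 + 48) * 64, c < C.M → TC.chkRow C c = true :=
  TC.rows_step (rows94) k95
theorem rows96 : ∀ c < (4608 + 48) * 64, c < C.M → TC.chkRow C c = true :=
  TC.rows_step (rows95) k96
theorem rows97 : ∀ c < (4656 + 48) * 64, c < C.M → TC.chkRow C c = true :=
  TC.rows_step (rows96) k97
theorem rows98 : ∀ c < (4704 + 48) * 64, c < C.M → TC.chkRow C c = true :=
  TC.rows_step (rows97) k98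
theorem rows99 : ∀ c < (4752 + 48) * 64, c < C.M → TC.chkRow C c = true :=
  TC.rows_step (rows98) k99
theorem rows100 : ∀ c < (4800 + 3) * 64, c < C.M → TC.chkRow C c = true :=
  TC.rows_step (rows99) k100
theorem main {G : Type*} [Group G] (g : ℕ → G) (hB : ∀ r ∈ B, ev g r = 1) (H : Subgroup G)
    (hH : ∀ w ∈ subs, ev g w ∈ H) :
    H.relIndex (Subgroup.closure (g '' {x | x < 12})) ≠ 0 ∧
      H.relIndex (Subgroup.closure (g '' {x | x < 12})) ≤ 306936 :=
  TC.index_le C B subs ex inv hl tR.hint rfl (by decide +kernel) (by decide +kernel)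
    (TC.rows_done rows100 (by decide +kernel)) g hB H hH
end H0.TCFi24a
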